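import Groth.Agent.Comod.Comatrix
import Mathlib.LinearAlgebra.Eigenspace.Triangularizable
import Mathlib.LinearAlgebra.Matrix.Charpoly.Eigs
import Mathlib.LinearAlgebra.Eigenspace.Charpoly
import Mathlib.RingTheory.Bialgebra.TensorProduct
import Mathlib.FieldTheory.IsAlgClosed.AlgebraicClosure
import Mathlib.RingTheory.IntegralClosure.IntegralRestrict

/-!
# Eigenvalues of a representation at a point are monomials in those of a generating representation
-/

set_option autoImplicit false
universe u v w w'

open TensorProduct Module.End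

namespace Groth.Agent.CharSpan

section Endo

variable {K : Type u} [Field K] {T : Type v} [CommRing T] [Algebra K T] (R : T →ₐ[K] T)

theorem mul_mem_ker_pow : ∀ (m : ℕ) (a b : K) (x y : T) (N M : ℕ), N + M ≤ m →
    ((R.toLinearMap - a • 1 : Module.End K T) ^ N) x = 0 →
    ((R.toLinearMap - b • 1 : Module.End K T) ^ M) y = 0 →
    ((R.toLinearMap - (a * b) • 1 : Module.End K T) ^ m) (x * y) = 0 := by
  intro m
  induction m with
  | zero =>
    intro a b x y N M h hx _
    obtain rfl : N = 0 := by omega
    simp only [pow_zero, Module.End.one_apply] at hx ⊢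
    simp [hx]
  | succ m ih =>
    intro a b x y N M h hx hy
    match N, M with
    | 0, _ =>
      simp only [pow_zero, Module.End.one_apply] at hx
      simp [hx]
    | _, 0 =>
      simp only [pow_zero, Module.End.one_apply] at hy
      simp [hy]
    | N + 1, M + 1 =>
      set P : Module.End K T := R.toLinearMap - a • 1
      set Q : Module.End K T := R.toLinearMap - b • 1
      set U : Module.End K T := R.toLinearMap - (a * b) • 1
      have e : U (x * y) = P x * (Q y + b • y) + x * (a • Q y) := by
        simp only [U, P, Q, LinearMap.sub_apply, LinearMap.smul_apply, Module.End.one_apply,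
          AlgHom.toLinearMap_apply, map_mul]
        simp only [Algebra.smul_def, map_mul]
        ring
      have hPx : (P ^ N) (P x) = 0 := by rw [← Module.End.mul_apply, ← pow_succ, hx]
      have hy' : (Q ^ (M + 1)) (Q y + b • y) = 0 := by
        rw [map_add, map_smul, hy, smul_zero, add_zero, ← Module.End.mul_apply, ← pow_succ, pow_succ',
          Module.End.mul_apply, hy, map_zero]
      have hQy : (Q ^ M) (a • Q y) = 0 := by
        rw [map_smul, ← Module.End.mul_apply, ← pow_succ, hy, smul_zero]
      rw [pow_succ, Module.End.mul_apply, e, map_add,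
        ih a b (P x) (Q y + b • y) N (M + 1) (by omega) hPx hy',
        ih a b x (a • Q y) (N + 1) M (by omega) hx hQy, add_zero]

theorem mul_mem_maxGen {a b : K} {x y : T} (hx : x ∈ maxGenEigenspace R.toLinearMap a)
    (hy : y ∈ maxGenEigenspace R.toLinearMap b) : x * y ∈ maxGenEigenspace R.toLinearMap (a * b) := by
  rw [mem_maxGenEigenspace] at hx hy ⊢
  obtain ⟨N, hN⟩ := hx
  obtain ⟨M, hM⟩ := hy
  exact ⟨N + M, mul_mem_ker_pow R (N + M) a b x y N M le_rfl hN hM⟩

/-- generalised eigenspaces with eigenvalue in a subring -/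
def genPart (L : Subring K) : Submodule K T :=
  ⨆ μ : L, maxGenEigenspace R.toLinearMap (μ : K)

/-- generalised eigenspaces with eigenvalue in a subring form a subalgebra -/
def genSub (L : Subring K) : Subalgebra K T :=
  (genPart R L).toSubalgebra
    (Submodule.mem_iSup_of_mem (⟨1, L.one_mem⟩ : L) ((mem_maxGenEigenspace _ _ _).2 ⟨1, by simp⟩))
    (fun x y hx hy => by
      induction hx using Submodule.iSup_induction' with
      | mem a x hx =>
        induction hy using Submodule.iSup_induction' with
        | mem b y hy => exact Submodule.mem_iSup_of_mem (a * b) (mul_mem_maxGen R hx hy)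
        | zero => simp
        | add p q _ _ hp hq => rw [mul_add]; exact add_mem hp hq
      | zero => simp
      | add p q _ _ hp hq => rw [add_mul]; exact add_mem hp hq)

theorem mem_of_eigenvector (L : Subring K) {s : Set T} (hs : Algebra.adjoin K s = ⊤)
    (hgen : ∀ t ∈ s, t ∈ genPart R L) {μ : K} {x : T} (hx : x ≠ 0) (hRx : R x = μ • x) : μ ∈ L := by
  by_contra hμ
  have htop : genSub R L = ⊤ := top_le_iff.1 (hs ▸ Algebra.adjoin_le fun t ht => hgen t ht)
  have h1 : x ∈ ⨆ (a : K) (_ : a ≠ μ), maxGenEigenspace R.toLinearMap a := by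
    have h : x ∈ genPart R L := (SetLike.ext_iff.1 htop x).2 Algebra.mem_top
    exact (iSup_le fun a : L => le_iSup₂ (f := fun (c : K) (_ : c ≠ μ) => maxGenEigenspace R.toLinearMap c) (a : K) (fun e => hμ (e ▸ a.2)) : genPart R L ≤ _) h
  have h2 : x ∈ maxGenEigenspace R.toLinearMap μ :=
    (mem_maxGenEigenspace _ _ _).2 ⟨1, by simp [hRx]⟩
  exact hx (Submodule.disjoint_def.1 (independent_maxGenEigenspace R.toLinearMap μ) x h2 h1)

end Endo

section Point

variable {k : Type u} [Field k] {B : Type v} [CommRing B] [Bialgebra k B]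
variable {K : Type w} [Field K] [Algebra k K] [IsAlgClosed K]

/-- right translation by a point on the base change of the coordinate ring -/
noncomputable def rTrans (h : B →ₐ[k] K) : K ⊗[k] B →ₐ[K] K ⊗[k] B :=
  Algebra.TensorProduct.lift (Algebra.ofId K (K ⊗[k] B))
    (((Algebra.TensorProduct.map h (AlgHom.id k B)).comp
      (Algebra.TensorProduct.comm k B B).toAlgHom).comp (Bialgebra.comulAlgHom k B))
    fun _ _ => .all _ _

variable {ι : Type w'} [Fintype ι] [DecidableEq ι] {M : ι → ι → B}

theorem rTrans_tmul (hM : Comod.IsComatrix (k := k) M) (h : B →ₐ[k] K) (i l : ι) (a : K) :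
    rTrans h (a ⊗ₜ M i l) = ∑ m, (a * h (M m l)) ⊗ₜ[k] M i m := by
  simp only [rTrans, Algebra.TensorProduct.lift_tmul, AlgHom.comp_apply, Bialgebra.comulAlgHom_apply,
    hM.comul_eq, map_sum, Algebra.ofId_apply, Algebra.TensorProduct.algebraMap_apply, Algebra.algebraMap_self,
    RingHom.id_apply]
  rw [Finset.mul_sum]
  refine Finset.sum_congr rfl fun m _ => ?_
  simp

theorem eigenvalue_mem {n : ℕ} {N : Fin n → Fin n → B} (hN : Comod.IsComatrix (k := k) N)
    (hgen : Algebra.adjoin k (Set.range fun p : Fin n × Fin n => N p.1 p.2) = ⊤)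
    (h : B →ₐ[k] K) (L : Subring K)
    (hL : ∀ μ : K, ((Matrix.of N).map h).charpoly.IsRoot μ → μ ∈ L)
    (hM : Comod.IsComatrix (k := k) M) {μ : K} (hμ : ((Matrix.of M).map h).charpoly.IsRoot μ) :
    μ ∈ L := by
  classical
  set S : Set (K ⊗[k] B) := Set.range fun p : Fin n × Fin n => (1 : K) ⊗ₜ[k] N p.1 p.2
  have hS : Algebra.adjoin K S = ⊤ := by
    refine top_le_iff.1 fun z _ => ?_
    induction z with
    | zero => exact zero_mem _
    | add p q hp hq => exact add_mem (hp trivial) (hq trivial)
    | tmul a b =>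
      have hle : Algebra.adjoin k (Set.range fun p : Fin n × Fin n => N p.1 p.2) ≤
          ((Algebra.adjoin K S).restrictScalars k).comap Algebra.TensorProduct.includeRight :=
        Algebra.adjoin_le (by rintro _ ⟨p, rfl⟩; exact Algebra.subset_adjoin ⟨p, rfl⟩)
      have h1 : (1 : K) ⊗ₜ[k] b ∈ Algebra.adjoin K S := hle (hgen ▸ Algebra.mem_top)
      have := (Algebra.adjoin K S).smul_mem h1 a
      rwa [TensorProduct.smul_tmul', smul_eq_mul, mul_one] at this
  have hmem : ∀ t ∈ S, t ∈ genPart (rTrans h) L := by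
    rintro _ ⟨⟨i, l⟩, rfl⟩
    let f : Module.End K (Fin n → K) := Matrix.toLin' ((Matrix.of N).map h)
    let φ : (Fin n → K) →ₗ[K] K ⊗[k] B :=
      (Pi.basisFun K (Fin n)).constr K fun m => (1 : K) ⊗ₜ[k] N i m
    have hφb : ∀ m, φ (Pi.single m 1) = (1 : K) ⊗ₜ[k] N i m := fun m => by
      simpa [φ] using (Pi.basisFun K (Fin n)).constr_basis K (fun m => (1 : K) ⊗ₜ[k] N i m) m
    have hcomm : (rTrans h).toLinearMap.comp φ = φ.comp f := by
      refine (Pi.basisFun K (Fin n)).ext fun m => ?_
      simp only [LinearMap.comp_apply, Pi.basisFun_apply, AlgHom.toLinearMap_apply, hφb, rTrans_tmul hN,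
        one_mul]
      conv_rhs =>
        rw [← (Pi.basisFun K (Fin n)).sum_repr (f (Pi.single m 1))]
      simp [f, hφb, Matrix.mulVec_single, TensorProduct.smul_tmul']
    have hpow : ∀ (a : K) (N' : ℕ) (v : Fin n → K),
        (((rTrans h).toLinearMap - a • 1 : Module.End K (K ⊗[k] B)) ^ N') (φ v) =
          φ (((f - a • 1 : Module.End K (Fin n → K)) ^ N') v) := by
      intro a N'
      induction N' with
      | zero => simp
      | succ N' ih =>
        intro v
        rw [pow_succ, Module.End.mul_apply, pow_succ, Module.End.mul_apply, ← ih]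
        congr 1
        simp only [LinearMap.sub_apply, LinearMap.smul_apply, Module.End.one_apply, map_sub, map_smul]
        rw [← LinearMap.comp_apply (f := (rTrans h).toLinearMap), hcomm, LinearMap.comp_apply]
    have key : (⊤ : Submodule K (Fin n → K)) ≤ (genPart (rTrans h) L).comap φ := by
      rw [← iSup_maxGenEigenspace_eq_top f]
      refine iSup_le fun a => ?_
      by_cases hb : maxGenEigenspace f a = ⊥
      · rw [hb]; exact bot_le
      have ha : a ∈ L := hL a (by
        rw [← Matrix.charpoly_toLin']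
        exact (hasEigenvalue_iff_isRoot_charpoly f a).1 ((HasUnifEigenvalue.lt (k := ⊤) one_pos
          (by exact hb : HasUnifEigenvalue f a ⊤) : HasEigenvalue f a)))
      intro v hv
      rw [mem_maxGenEigenspace] at hv
      obtain ⟨N', hv⟩ := hv
      exact Submodule.mem_iSup_of_mem (⟨a, ha⟩ : L)
        ((mem_maxGenEigenspace _ _ _).2 ⟨N', by rw [hpow, hv, map_zero]⟩)
    have := key (Submodule.mem_top (x := Pi.single l 1))
    rwa [Submodule.mem_comap, hφb] at this
  obtain ⟨v, hv⟩ := ((hasEigenvalue_iff_isRoot_charpoly (Matrix.toLin' ((Matrix.of M).map h)) μ).2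
    (by rwa [Matrix.charpoly_toLin'])).exists_hasEigenvector
  obtain ⟨i, hi⟩ := Function.ne_iff.1 hv.2
  have hvi : ∀ m, ∑ j, h (M m j) * v j = μ * v m := fun m => by
    simpa [Matrix.toLin'_apply, Matrix.mulVec, dotProduct] using congrFun hv.apply_eq_smul m
  refine mem_of_eigenvector (rTrans h) L hS hmem (μ := μ) (x := ∑ j, v j ⊗ₜ[k] M i j) (fun hz => hi ?_) ?_
  · have h1 := congrArg (Algebra.TensorProduct.lift (AlgHom.id k K)
      ((Algebra.ofId k K).comp (Bialgebra.counitAlgHom k B)) fun _ _ => .all _ _) hz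
    simpa [hM.counit_eq, apply_ite (algebraMap k K), Finset.sum_ite_eq] using h1
  · simp only [map_sum, rTrans_tmul hM, Finset.smul_sum, TensorProduct.smul_tmul', smul_eq_mul]
    rw [Finset.sum_comm]
    refine Finset.sum_congr rfl fun m _ => ?_
    rw [← TensorProduct.sum_tmul, ← hvi m]
    congr 1
    exact Finset.sum_congr rfl fun j _ => mul_comm _ _

/-- the trace at a point lies in any subring containing the eigenvalues of a generating representation -/
theorem trace_mem {n : ℕ} {N : Fin n → Fin n → B} (hN : Comod.IsComatrix (k := k) N)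
    (hgen : Algebra.adjoin k (Set.range fun p : Fin n × Fin n => N p.1 p.2) = ⊤)
    (h : B →ₐ[k] K) (L : Subring K)
    (hL : ∀ μ : K, ((Matrix.of N).map h).charpoly.IsRoot μ → μ ∈ L)
    (hM : Comod.IsComatrix (k := k) M) : h (∑ i, M i i) ∈ L := by
  have ht : h (∑ i, M i i) = ((Matrix.of M).map h).trace := by simp [Matrix.trace]
  rw [ht, Matrix.trace_eq_sum_roots_charpoly]
  exact L.multiset_sum_mem _ fun μ hμ => eigenvalue_mem hN hgen h L hL hM (Polynomial.isRoot_of_mem_roots hμ)

end Point

section Integral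

variable {k : Type u} [Field k] {B : Type v} [CommRing B] [Bialgebra k B] [IsNoetherianRing B] [_root_.IsReduced B]

/-- traces of all comatrices are integral over a subalgebra containing the coefficients of the
characteristic polynomial of a generating comatrix -/
theorem isIntegral_trace {n : ℕ} {N : Fin n → Fin n → B} (hN : Comod.IsComatrix (k := k) N)
    (hgen : Algebra.adjoin k (Set.range fun p : Fin n × Fin n => N p.1 p.2) = ⊤)
    (C : Subalgebra k B) (hC : ∀ i, (Matrix.of N).charpoly.coeff i ∈ C)
    {ι : Type w'} [Fintype ι] [DecidableEq ι] {M : ι → ι → B} (hM : Comod.IsComatrix (k := k) M) :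
    IsIntegral C (∑ i, M i i) := by
  classical
  set t := ∑ i, M i i
  have hp : ∀ P ∈ minimalPrimes B, ∃ q : Polynomial C, q.Monic ∧ Polynomial.aeval t q ∈ P := by
    intro P hP
    haveI := hP.1.1
    let K := AlgebraicClosure (FractionRing (B ⧸ P))
    let ψ : (B ⧸ P) →ₐ[k] K := IsScalarTower.toAlgHom k (B ⧸ P) K
    have hψ : Function.Injective ψ := by
      have : (ψ : (B ⧸ P) → K) =
          (algebraMap (FractionRing (B ⧸ P)) K) ∘ (algebraMap (B ⧸ P) (FractionRing (B ⧸ P))) :=
        funext fun x => IsScalarTower.algebraMap_apply _ _ _ x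
      rw [this]
      exact (RingHom.injective _).comp (IsFractionRing.injective _ _)
    let h : B →ₐ[k] K := ψ.comp (Ideal.Quotient.mkₐ k P)
    letI : Algebra C K := (h.toRingHom.comp (algebraMap C B)).toAlgebra
    haveI : Nontrivial B := ⟨⟨1, 0, fun h => hP.1.1.ne_top (Ideal.eq_top_of_isUnit_mem _ (h ▸ P.zero_mem) isUnit_one)⟩⟩
    obtain ⟨p₀, hp₀, -, hp₀m⟩ := Polynomial.lifts_and_degree_eq_and_monic
      (f := algebraMap C B) (p := (Matrix.of N).charpoly)
      ((Polynomial.lifts_iff_coeff_lifts _).2 fun i => ⟨⟨_, hC i⟩, rfl⟩) (Matrix.charpoly_monic _)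
    have hmem : h t ∈ (integralClosure C K).toSubring :=
      trace_mem hN hgen h _ (fun μ hμ => ⟨p₀, hp₀m, by
        have : p₀.map (algebraMap C K) = ((Matrix.of N).map h).charpoly := by
          rw [show ((Matrix.of N).map h) = (Matrix.of N).map h.toRingHom from rfl, Matrix.charpoly_map, ← hp₀,
            Polynomial.map_map]
          rfl
        rw [← Polynomial.eval_map, this]
        exact hμ⟩) hM
    obtain ⟨q, hq, hq0⟩ := hmem
    refine ⟨q, hq, Ideal.Quotient.eq_zero_iff_mem.1 (hψ ?_)⟩
    rw [map_zero]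
    change h.toRingHom (Polynomial.eval₂ (algebraMap C B) t q) = 0
    rw [Polynomial.hom_eval₂]
    exact hq0
  choose q hq1 hq2 using hp
  haveI : Fintype (minimalPrimes B) := (minimalPrimes.finite_of_isNoetherianRing B).fintype
  refine ⟨∏ P : minimalPrimes B, q P.1 P.2, Polynomial.monic_prod_of_monic _ _ fun P _ => hq1 _ _, ?_⟩
  rw [← Polynomial.aeval_def]
  refine _root_.IsReduced.eq_zero _ ?_
  rw [← mem_nilradical, nilradical, ← Ideal.sInf_minimalPrimes]
  refine Submodule.mem_sInf.2 fun P hP => ?_
  haveI := hP.1.1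
  rw [map_prod]
  exact Ideal.IsPrime.prod_mem_iff.2 ⟨⟨P, hP⟩, Finset.mem_univ _, hq2 P hP⟩

end Integral

end Groth.Agent.CharSpan
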