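import Groth.Agent.Comod.Comatrix
import Mathlib.LinearAlgebra.ExteriorPower.Basis
import Mathlib.LinearAlgebra.Matrix.ToLin
import Mathlib.LinearAlgebra.Matrix.Charpoly.Coeff
import Mathlib.Data.Fintype.Powerset

/-!
# Minors of comatrices form comatrices
-/

set_option autoImplicit false
universe u v w

open TensorProduct Set

namespace Groth.Agent.CharSpan

variable {R : Type v} [CommRing R] {n k : ℕ}

/-- increasing enumeration of a finite set -/
noncomputable abbrev emb (s : powersetCard (Fin n) k) : Fin k ↪o Fin n :=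
  powersetCard.ofFinEmbEquiv.symm s

/-- the matrix of `k × k` minors -/
noncomputable def minorMat (k : ℕ) (X : Matrix (Fin n) (Fin n) R) :
    Matrix (powersetCard (Fin n) k) (powersetCard (Fin n) k) R :=
  Matrix.of fun s t => (X.submatrix (emb s) (emb t)).det

theorem toMatrix_map (X : Matrix (Fin n) (Fin n) R) :
    LinearMap.toMatrix ((Pi.basisFun R (Fin n)).exteriorPower k) ((Pi.basisFun R (Fin n)).exteriorPower k)
      (exteriorPower.map k (Matrix.toLin' X)) = minorMat k X := by
  ext s t
  rw [LinearMap.toMatrix_apply, exteriorPower.basis_repr_apply, exteriorPower.basis_apply,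
    exteriorPower.ιMulti_family, exteriorPower.map_apply_ιMulti, exteriorPower.ιMultiDual_apply_ιMulti,
    ← Matrix.det_transpose]
  refine congrArg Matrix.det ?_
  ext a b
  simp [Matrix.toLin'_apply, Matrix.mulVec_single, emb]

theorem minorMat_mul (X Y : Matrix (Fin n) (Fin n) R) :
    minorMat k (X * Y) = minorMat k X * minorMat k Y := by
  rw [← toMatrix_map, ← toMatrix_map, ← toMatrix_map, ← LinearMap.toMatrix_comp, Matrix.toLin'_mul,
    exteriorPower.map_comp]

theorem minorMat_one : minorMat k (1 : Matrix (Fin n) (Fin n) R) = 1 := by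
  rw [← toMatrix_map, Matrix.toLin'_one, exteriorPower.map_id, LinearMap.toMatrix_id]

theorem map_minorMat {S : Type w} [CommRing S] (f : R →+* S) (X : Matrix (Fin n) (Fin n) R)
    (s t : powersetCard (Fin n) k) : f (minorMat k X s t) = minorMat k (X.map f) s t :=
  RingHom.map_det f _

section Comod

variable {K : Type u} [CommRing K] {A : Type v} [CommRing A] [Bialgebra K A]

theorem isComatrix_minor {M : Fin n → Fin n → A} (hM : Comod.IsComatrix (k := K) M) (k : ℕ) :
    Comod.IsComatrix (k := K) (fun s t : powersetCard (Fin n) k => minorMat k (Matrix.of M) s t) where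
  comul_eq s t := by
    let X : Matrix (Fin n) (Fin n) (A ⊗[K] A) :=
      (Matrix.of M).map (Algebra.TensorProduct.includeLeft : A →ₐ[K] A ⊗[K] A)
    let Y : Matrix (Fin n) (Fin n) (A ⊗[K] A) :=
      (Matrix.of M).map (Algebra.TensorProduct.includeRight : A →ₐ[K] A ⊗[K] A)
    have h : (Matrix.of M).map (Bialgebra.comulAlgHom K A) = X * Y := by
      ext i j
      simp [X, Y, Matrix.mul_apply, hM.comul_eq]
    calc Coalgebra.comul (R := K) (minorMat k (Matrix.of M) s t)
        = minorMat k ((Matrix.of M).map (Bialgebra.comulAlgHom K A)) s t :=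
          map_minorMat (Bialgebra.comulAlgHom K A : A →+* A ⊗[K] A) _ s t
      _ = ∑ l, minorMat k X s l * minorMat k Y l t := by rw [h, minorMat_mul, Matrix.mul_apply]
      _ = _ := by
        refine Finset.sum_congr rfl fun l _ => ?_
        have h1 : minorMat k X s l = minorMat k (Matrix.of M) s l ⊗ₜ[K] 1 :=
          (map_minorMat (Algebra.TensorProduct.includeLeft : A →ₐ[K] A ⊗[K] A).toRingHom _ s l).symm
        have h2 : minorMat k Y l t = 1 ⊗ₜ[K] minorMat k (Matrix.of M) l t :=
          (map_minorMat (Algebra.TensorProduct.includeRight : A →ₐ[K] A ⊗[K] A).toRingHom _ l t).symm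
        rw [h1, h2, Algebra.TensorProduct.tmul_mul_tmul, mul_one, one_mul]
  counit_eq s t := by
    have h : (Matrix.of M).map (Bialgebra.counitAlgHom K A) = 1 := by
      ext i j
      simp [hM.counit_eq, Matrix.one_apply]
    have := map_minorMat (Bialgebra.counitAlgHom K A : A →+* K) (Matrix.of M) s t
    simp only [RingHom.coe_coe, h, minorMat_one] at this
    rw [← Bialgebra.counitAlgHom_apply, this, Matrix.one_apply]

theorem IsComatrix.reindex {ι κ : Type*} [Fintype ι] [DecidableEq ι] [Fintype κ] [DecidableEq κ]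
    {M : ι → ι → A} (hM : Comod.IsComatrix (k := K) M) (e : κ ≃ ι) :
    Comod.IsComatrix (k := K) (fun a b => M (e a) (e b)) where
  comul_eq a b := by
    rw [hM.comul_eq]
    exact (Equiv.sum_comp e fun l => M (e a) l ⊗ₜ[K] M l (e b)).symm
  counit_eq a b := by simp [hM.counit_eq]

end Comod

theorem charpoly_coeff_eq_sum (X : Matrix (Fin n) (Fin n) R) (hk : k ≤ n) :
    X.charpoly.coeff (n - k) = (-1) ^ k * ∑ s : powersetCard (Fin n) k, minorMat k X s s := by
  have h := X.charpoly_coeff_eq_sum_minors k (by simpa using hk)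
  rw [Fintype.card_fin] at h
  rw [h, Finset.sum_subtype (Finset.univ.powersetCard k) (p := fun s => s ∈ powersetCard (Fin n) k)
    (fun s => by simp [Set.powersetCard.mem_iff])]
  congr 1
  refine Finset.sum_congr rfl fun s _ => ?_
  let e : Fin k ≃ (s : Finset (Fin n)) := ((s : Finset (Fin n)).orderIsoOfFin s.2).toEquiv
  rw [← Matrix.det_submatrix_equiv_self e, Matrix.submatrix_submatrix]
  rfl

end Groth.Agent.CharSpan
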